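import Groth.Agent.ResProp.EF.K276.Chart
import Groth.Agent.ResProp.EF.K294.HitEF
import Groth.Agent.ResProp.EF.X56.Top

/-!
# From `Hit` for the chart of a groupoid ring to the frozen statement
-/

set_option autoImplicit false
set_option linter.dupNamespace false

universe u

open CategoryTheory CategoryTheory.Limits Opposite

namespace Groth.Agent.ResProp.EF.K276

open EF56 K784.BC K784.PM K741.RP Groth.Agent.ResProp.EF.K294

/-- `Hit` for the chart of a groupoid ring -/
def ChartHit (A : NFᵒᵖ ⥤ CommRingCat.{u}) (h : GR A) : Prop := @K294.Chart.Hit _ _ _ _ (comodPkg h).ab (chart h)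

/-- `Hit` gives enough flats -/
theorem ef_of_hit {A : NFᵒᵖ ⥤ CommRingCat.{u}} (h : GR A) (hH : ChartHit A h) : EF56.EF A := by
  letI := (comodPkg h).ab
  haveI := (comodPkg h).gr
  haveI : HasColimitsOfSize.{0, 0} (Comod A) := hasColimitsOfSizeShrink.{0, 0, u, u} (Comod A)
  exact ef_of_chart h ((chart h).hitToEF hH)

/-- **`Hit` for all smooth groupoid rings of finite type over `ℤ` gives the frozen statement S16912** -/
theorem frozen_of_hit (h1 : StmtApprox.{u}) (h2 : StmtAffine.{u})
    (h : ∀ (A : NFᵒᵖ ⥤ CommRingCat.{u}) (hA : GRZ A), ChartHit A hA.toGR) : Frozen.{u} :=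
  frozen_of_GRZ h1 h2 fun A hA => ef_of_hit hA.toGR (h A hA)

end Groth.Agent.ResProp.EF.K276
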