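import Groth.Agent.ResProp.EF.K294.Tor
import Groth.Agent.PerfC.TensorSymm
import Mathlib.Algebra.Category.ModuleCat.Monoidal.Symmetric

/-!
# Total tensor products and base change; `TorGE` under base change followed by restriction along another flat map
-/

set_option autoImplicit false
set_option backward.isDefEq.respectTransparency false

universe u

open CategoryTheory CategoryTheory.Limits MonoidalCategory HomologicalComplex

namespace Groth.Agent.ResProp.EF.K276

open Groth.Agent.PerfB Groth.Agent.PerfB.RingKFlat Groth.Agent.ResProp.EF.K294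

/-- symmetry of the total tensor product -/
noncomputable def tensSymm {R : Type u} [CommRing R] (K L : CM R) : tens K L ≅ tens L K :=
  Groth.Agent.PerfC.TensorSymm.symmCx (TR R) (fun M N => β_ N M) (fun {M M'} f N => BraidedCategory.braiding_naturality_right N f)
    (fun M {N N'} f => BraidedCategory.braiding_naturality_left f M) K L

section Alg

variable {R S : Type u} [CommRing R] [CommRing S] [Algebra R S]

/-- restriction of scalars on complexes -/
noncomputable abbrev resC (R S : Type u) [CommRing R] [CommRing S] [Algebra R S] : CM S ⥤ CM R :=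
  (res R S).mapHomologicalComplex (ComplexShape.up ℤ)

/-- base change on complexes -/
noncomputable abbrev extC (R S : Type u) [CommRing R] [CommRing S] [Algebra R S] : CM R ⥤ CM S :=
  (ext R S).mapHomologicalComplex (ComplexShape.up ℤ)

theorem exactAt_resC_iff (K : CM S) (i : ℤ) : ((resC R S).obj K).ExactAt i ↔ K.ExactAt i :=
  ⟨fun h => (res R S).reflects_exact_of_faithful (K.sc i) h, fun h => h.map (res R S)⟩

/-- projection formula -/
noncomputable def tensResIso (X : CM S) (L : CM R) : tens ((resC R S).obj X) L ≅ (resC R S).obj (tens X ((extC R S).obj L)) :=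
  BifCompare.iso (cbcData R S) X L

theorem exactAt_tens_res_left (X : CM S) (L : CM R) (i : ℤ) :
    (tens ((resC R S).obj X) L).ExactAt i ↔ (tens X ((extC R S).obj L)).ExactAt i :=
  ⟨fun h => (exactAt_resC_iff _ i).1 (h.of_iso (tensResIso X L)), fun h =>
    ((exactAt_resC_iff (R := R) _ i).2 h).of_iso (tensResIso X L).symm⟩

theorem exactAt_tens_res_right (K : CM R) (Y : CM S) (i : ℤ) :
    (tens K ((resC R S).obj Y)).ExactAt i ↔ (tens ((extC R S).obj K) Y).ExactAt i := by
  have h1 := exactAt_tens_res_left (R := R) (S := S) Y K i
  exact ⟨fun h => (h1.1 (h.of_iso (tensSymm _ _))).of_iso (tensSymm _ _), fun h =>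
    (h1.2 (h.of_iso (tensSymm _ _))).of_iso (tensSymm _ _)⟩

theorem exactAt_ext_of_flat [Module.Flat R S] (L : CM R) (i : ℤ) (h : L.ExactAt i) : ((extC R S).obj L).ExactAt i := by
  rw [← exactAt_resC_iff (R := R)]
  have h1 : (((tensorLeft (ModuleCat.of R S)).mapHomologicalComplex (ComplexShape.up ℤ)).obj L).ExactAt i := by
    have := preservesHomology_tensorLeft (ModuleCat.of R S) ‹_›
    exact h.map (tensorLeft (ModuleCat.of R S))
  exact h1.of_iso ((NatIso.mapHomologicalComplex (extResIso R S) (ComplexShape.up ℤ)).app L).symm

theorem isTest_ext [Module.Flat R S] {L : CM R} (hL : IsTest L) : IsTest ((extC R S).obj L) where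
  le := by
    have := hL.le
    infer_instance
  flat n := by
    have := hL.flat n
    change Module.Flat S (TensorProduct R S (L.X n))
    infer_instance
  exact i hi := exactAt_ext_of_flat L i (hL.exact i hi)

theorem isTest_res [Module.Flat R S] {Y : CM S} (hY : IsTest Y) : IsTest ((resC R S).obj Y) where
  le := by
    have := hY.le
    infer_instance
  flat n := by
    have := hY.flat n
    letI : Module R (Y.X n) := Module.compHom (Y.X n) (algebraMap R S)
    haveI : IsScalarTower R S (Y.X n) := IsScalarTower.of_algebraMap_smul fun _ _ => rfl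
    exact Module.Flat.trans R S (Y.X n)
  exact i hi := (exactAt_resC_iff Y i).2 (hY.exact i hi)

/-- `TorGE` goes up along any ring map -/
theorem torGE_ext [Module.Flat R S] {a : ℤ} {K : CM R} (hK : TorGE a K) : TorGE a ((extC R S).obj K) := fun Y hY i hi =>
  (exactAt_tens_res_right K Y i).1 (hK _ (isTest_res hY) i hi)

/-- `TorGE` goes down along a flat ring map -/
theorem torGE_res [Module.Flat R S] {a : ℤ} {X : CM S} (hX : TorGE a X) : TorGE a ((resC R S).obj X) := fun L hL i hi =>
  (exactAt_tens_res_left X L i).2 (hX _ (isTest_ext hL) i hi)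

end Alg

end Groth.Agent.ResProp.EF.K276
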