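import Groth.Agent.ResProp.EF.K276.Pkg
import Groth.Agent.ResProp.EF.K276.TensBC

/-!
# The chart of a groupoid ring in the sense of `K294.Chart`
-/

set_option autoImplicit false
set_option backward.isDefEq.respectTransparency false
set_option linter.style.haveILetI false

universe u

open CategoryTheory CategoryTheory.Limits MonoidalCategory HomologicalComplex Opposite

namespace Groth.Agent.ResProp.EF.K276

open EF56 K784.BC K784.PM K741.RP Groth.Agent.PerfB.RingKFlat Groth.Agent.ResProp.EF.K294

section

variable {R S : Type u} [CommRing R] [CommRing S]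

/-- extension of scalars -/
noncomputable def extIso (f : R →+* S) : letI := f.toAlgebra; ModuleCat.extendScalars.{u, u, u} f ≅ ext R S :=
  letI := f.toAlgebra
  NatIso.ofComponents (fun N => LinearEquiv.toModuleIso (X₁ := (ModuleCat.extendScalars.{u, u, u} f).obj N)
    (X₂ := (ext R S).obj N) (LinearEquiv.refl S (TensorProduct R S N))) fun {M N} g => by
    ext m
    rfl

theorem torGE_restrictScalars {s : R →+* S} (hs : s.Flat) {a : ℤ} {X : CM S} (hX : TorGE a X) :
    TorGE a (((ModuleCat.restrictScalars.{u} s).mapHomologicalComplex (ComplexShape.up ℤ)).obj X) := by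
  letI := s.toAlgebra
  haveI : Module.Flat R S := hs
  exact torGE_res hX

theorem torGE_extendScalars {t : R →+* S} (ht : t.Flat) {a : ℤ} {K : CM R} (hK : TorGE a K) :
    TorGE a (((ModuleCat.extendScalars.{u, u, u} t).mapHomologicalComplex (ComplexShape.up ℤ)).obj K) := by
  letI := t.toAlgebra
  haveI : Module.Flat R S := ht
  exact (torGE_ext hK).of_iso ((NatIso.mapHomologicalComplex (extIso t) (ComplexShape.up ℤ)).app K).symm

end

variable {A : NFᵒᵖ ⥤ CommRingCat.{u}}

/-- **the chart of a groupoid ring** -/
noncomputable def chart (h : GR A) : @K294.Chart.{u, u + 1, u} (A.obj (op ⟨0⟩)) _ (Comod A) _ (comodPkg h).ab :=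
  letI := (comodPkg h).ab
  { us := (comodPkg h).ch.v
    ul := (comodPkg h).ch.p
    adj := (comodPkg h).ch.adj
    additive_us := (comodPkg h).ch.addv
    additive_ul := (comodPkg h).ch.addp
    exact_us := (comodPkg h).ch.fin_lim
    faithful_us := (comodPkg h).ch.faithful
    exact_ul := (comodPkg h).ch.p_fin_colim
    torGE_ul := by
      intro a K hK
      haveI := (comodPkg h).ch.addp
      haveI := (comodPkg h).ch.addv
      haveI : ((comodPkg h).ch.p ⋙ (comodPkg h).ch.v).Additive := inferInstance
      haveI : (K554.pst h ⋙ (isCart A).ι ⋙ PresheafOfModules.evaluation (rf A) (op ⟨0⟩)).Additive := this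
      have h1 := torGE_restrictScalars (h.ff ⟨0⟩).fl (torGE_extendScalars (ff_pt h 1 1).fl hK)
      exact h1.of_iso ((NatIso.mapHomologicalComplex (K554.pstEval h ⟨0⟩) (ComplexShape.up ℤ)).app K).symm }

/-- enough flats for the chart give `EF A` -/
theorem ef_of_chart (h : GR A) (hE : @K294.Chart.EF _ _ _ _ (comodPkg h).ab (chart h)) : EF56.EF A :=
  stmtEFComod A h fun M => by
    obtain ⟨F, p, hp, hF⟩ := hE M
    exact ⟨F, p, hF, hp⟩

end Groth.Agent.ResProp.EF.K276
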