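import Groth.Agent.ResProp.EF.K276.OfPM

/-!
# P4: enough flats in `Comod A` give `EF A`

`quotPM`: the quotient of a presheaf of modules by a stable family of submodules; the cokernel of a map of cartesian presheaves is
cartesian; epimorphisms of `Comod A` are surjective.
-/

set_option autoImplicit false
set_option linter.dupNamespace false
set_option backward.isDefEq.respectTransparency false

open CategoryTheory CategoryTheory.Limits Opposite

namespace Groth.Agent.ResProp.EF.K276

open K784.BC K784.PM K741.RP EF56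

universe u

variable {A : NFᵒᵖ ⥤ CommRingCat.{u}}

/-- the quotient by a stable family of submodules -/
noncomputable def quotPM (M : PM.{u} A) (L : ∀ z : NF, Submodule (A.obj (op z)) (M.obj z))
    (h : ∀ ⦃x z : NF⦄ (φ : x ⟶ z) (m : M.obj z), m ∈ L z → M.map φ m ∈ L x) : PM.{u} A where
  obj z := M.obj z ⧸ L z
  grp _ := inferInstance
  mod _ := inferInstance
  map {x z} φ := QuotientAddGroup.map (L z).toAddSubgroup (L x).toAddSubgroup (M.map φ) fun m hm => h φ m hm
  map_smul {x z} φ r m := by
    induction m using Submodule.Quotient.induction_on with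
    | H m =>
      change Submodule.Quotient.mk (M.map φ (r • m)) = rg A φ r • (Submodule.Quotient.mk (M.map φ m) : M.obj x ⧸ L x)
      rw [M.map_smul, Submodule.Quotient.mk_smul]
  map_id z m := by
    induction m using Submodule.Quotient.induction_on with
    | H m =>
      change Submodule.Quotient.mk (M.map (𝟙 z) m) = Submodule.Quotient.mk m
      rw [M.map_id]
  map_comp {y x z} ψ φ m := by
    induction m using Submodule.Quotient.induction_on with
    | H m =>
      change (Submodule.Quotient.mk (M.map (ψ ≫ φ) m) : M.obj y ⧸ L y) = Submodule.Quotient.mk (M.map ψ (M.map φ m))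
      rw [M.map_comp]

theorem quotPM_cart {M : PM.{u} A} (hM : M.Cart) (L : ∀ z : NF, Submodule (A.obj (op z)) (M.obj z))
    (h : ∀ ⦃x z : NF⦄ (φ : x ⟶ z) (m : M.obj z), m ∈ L z → M.map φ m ∈ L x)
    (hL : ∀ ⦃x z : NF⦄ (φ : x ⟶ z), L x ≤ Submodule.span (A.obj (op x)) (M.map φ '' (L z))) : (quotPM M L h).Cart :=
  fun x z φ => isBC_quot (hM φ) (L z) (L x) (le_antisymm (hL φ) (Submodule.span_le.2 (by
    rintro _ ⟨m, hm, rfl⟩
    exact h φ m hm))) _ fun _ => rfl

/-- the family of ranges of a natural family of linear maps from a cartesian presheaf spans along arrows -/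
theorem range_le_span {F M : PM.{u} A} (hF : F.Cart) (q : ∀ a : NF, F.obj a →ₗ[A.obj (op a)] M.obj a)
    (hq : ∀ ⦃a b : NF⦄ (φ : a ⟶ b) (e : F.obj b), q a (F.map φ e) = M.map φ (q b e)) {x z : NF} (φ : x ⟶ z) :
    LinearMap.range (q x) ≤ Submodule.span (A.obj (op x)) (M.map φ '' (LinearMap.range (q z))) := by
  rintro _ ⟨e, rfl⟩
  have he : e ∈ Submodule.span (A.obj (op x)) (Set.range (F.map φ)) := by
    rw [(hF φ).span_range]
    exact Submodule.mem_top
  induction he using Submodule.span_induction with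
  | mem e h =>
    obtain ⟨e, rfl⟩ := h
    rw [hq]
    exact Submodule.subset_span ⟨_, ⟨e, rfl⟩, rfl⟩
  | zero => rw [map_zero]; exact Submodule.zero_mem _
  | add e e' _ _ h h' => rw [map_add]; exact Submodule.add_mem _ h h'
  | smul r e _ h => rw [_root_.map_smul]; exact Submodule.smul_mem _ _ h

/-- the cokernel of a natural family of maps -/
noncomputable def cokPM {F M : PM.{u} A} (q : ∀ a : NF, F.obj a →ₗ[A.obj (op a)] M.obj a)
    (hq : ∀ ⦃a b : NF⦄ (φ : a ⟶ b) (e : F.obj b), q a (F.map φ e) = M.map φ (q b e)) : PM.{u} A :=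
  quotPM M (fun a => LinearMap.range (q a)) fun x z φ m hm => by
    obtain ⟨e, rfl⟩ := hm
    exact ⟨F.map φ e, hq φ e⟩

theorem cokPM_cart {F M : PM.{u} A} (hF : F.Cart) (hM : M.Cart) (q : ∀ a : NF, F.obj a →ₗ[A.obj (op a)] M.obj a)
    (hq : ∀ ⦃a b : NF⦄ (φ : a ⟶ b) (e : F.obj b), q a (F.map φ e) = M.map φ (q b e)) : (cokPM q hq).Cart :=
  quotPM_cart hM _ _ fun _ _ φ => range_le_span hF q hq φ

/-- the linear maps of a map of presheaves of modules -/
noncomputable def lin {F M : PresheafOfModules.{u} (rf A)} (q : F ⟶ M) (a : NF) :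
    (toPM F).obj a →ₗ[A.obj (op a)] (toPM M).obj a := (q.app (op a)).hom

theorem lin_map {F M : PresheafOfModules.{u} (rf A)} (q : F ⟶ M) ⦃a b : NF⦄ (φ : a ⟶ b) (e : (toPM F).obj b) :
    lin q a ((toPM F).map φ e) = (toPM M).map φ (lin q b e) :=
  PresheafOfModules.naturality_apply q φ.op e

/-- epimorphisms of `Comod A` are surjective in every degree -/
theorem surjective_of_epi {F M : Comod A} (q : F ⟶ M) [Epi q] (a : NF) : Function.Surjective (lin q.hom a) := by
  let Q : Comod A := ⟨ofPM (cokPM (lin q.hom) (lin_map q.hom)), ofPM_cart (cokPM_cart F.2 M.2 _ _)⟩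
  let p : M.obj ⟶ Q.obj := homMk (M := M.obj) (N := ofPM (cokPM (lin q.hom) (lin_map q.hom)))
    (fun a => (LinearMap.range (lin q.hom a)).mkQ) (fun a b φ e => rfl)
  let z : M.obj ⟶ Q.obj := homMk (M := M.obj) (N := ofPM (cokPM (lin q.hom) (lin_map q.hom)))
    (fun a => 0) (fun a b φ e => (map_zero ((toPM Q.obj).map φ)).symm)
  have h : q ≫ (ObjectProperty.homMk p : M ⟶ Q) = q ≫ (ObjectProperty.homMk z : M ⟶ Q) := by
    refine ObjectProperty.hom_ext _ ?_
    refine PresheafOfModules.hom_ext fun X => ?_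
    ext e
    exact (Submodule.Quotient.mk_eq_zero (LinearMap.range (lin q.hom X.unop))).2 ⟨e, rfl⟩
  have h2 := (cancel_epi q).1 h
  intro m
  have h3 : (p.app (op a)) m = (z.app (op a)) m := by
    have h4 : p = z := congrArg (fun f => f.hom) h2
    rw [h4]
  exact (Submodule.Quotient.mk_eq_zero (LinearMap.range (lin q.hom a))).1 h3

theorem stmtEFComod : StmtEFComod.{u} := by
  intro A hA hE M hM
  obtain ⟨F, q, hF, hq⟩ := hE ⟨ofPM M, ofPM_cart hM⟩
  exact ⟨toPM F.obj, fun a => lin q.hom a, F.2, fun a b φ e => lin_map q.hom φ e, hF, surjective_of_epi q ⟨0⟩⟩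

end Groth.Agent.ResProp.EF.K276
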