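import Groth.Agent.ResProp.EF.K276.Sep
import Groth.Agent.ResProp.EF.K741.ComodAb

/-!
# `Comod A` is a Grothendieck abelian category (P1 of helper741 + P3)
-/

set_option autoImplicit false
set_option linter.dupNamespace false

open CategoryTheory CategoryTheory.Limits Opposite

namespace Groth.Agent.ResProp.EF.K276

open K784.BC K784.PM K741.RP EF56

universe u

variable {A : NFᵒᵖ ⥤ CommRingCat.{u}}

instance hasSep [hA : Fact (GR A)] : HasSeparator (Comod A) :=
  haveI : HasCoproducts.{u} (Comod A) := inferInstance
  hasSeparator hA.out

instance isGrothendieckAbelian [hA : Fact (GR A)] : IsGrothendieckAbelian.{u} (Comod A) where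
  locallySmall := inferInstance
  hasFilteredColimitsOfSize := inferInstance
  ab5OfSize := inferInstance
  hasSeparator := inferInstance

end Groth.Agent.ResProp.EF.K276
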