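import Groth.Agent.ResProp.EF.Base

/-!
# `PM A` and `PresheafOfModules`: the two directions
-/

set_option autoImplicit false
set_option linter.dupNamespace false
set_option backward.isDefEq.respectTransparency false

open CategoryTheory CategoryTheory.Limits Opposite

namespace Groth.Agent.ResProp.EF.K276

open K784.BC K784.PM K741.RP EF56

universe u

variable {A : NFᵒᵖ ⥤ CommRingCat.{u}}

/-- the value of a `PM` as a module -/
noncomputable def ofPMobj (P : PM.{u} A) (a : NFᵒᵖ) : ModuleCat.{u} ((rf A).obj a) :=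
  letI : Module ((rf A).obj a) (P.obj a.unop) := P.mod a.unop
  ModuleCat.of ((rf A).obj a) (P.obj a.unop)

/-- a `PM` as a presheaf of modules -/
noncomputable def ofPM (P : PM.{u} A) : PresheafOfModules.{u} (rf A) where
  obj a := ofPMobj P a
  map {a b} φ := ModuleCat.ofHom (X := ofPMobj P a) (Y := (ModuleCat.restrictScalars ((rf A).map φ).hom).obj
      (ofPMobj P b))
    { toFun := fun m => P.map φ.unop m
      map_add' := fun x y => map_add (P.map φ.unop) x y
      map_smul' := fun r m => P.map_smul φ.unop r m }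
  map_id a := by
    ext m
    exact P.map_id a.unop m
  map_comp {a b c} φ ψ := by
    ext m
    exact P.map_comp ψ.unop φ.unop m

theorem ofPM_map_apply (P : PM.{u} A) {a b : NFᵒᵖ} (φ : a ⟶ b) (m : P.obj a.unop) :
    ((ofPM P).map φ).hom m = P.map φ.unop m := rfl

theorem ofPM_cart {P : PM.{u} A} (h : P.Cart) : (toPM (ofPM P)).Cart := h

/-- natural families of linear maps are maps of presheaves of modules -/
noncomputable def homMk {M N : PresheafOfModules.{u} (rf A)}
    (q : ∀ a : NF, (toPM M).obj a →ₗ[A.obj (op a)] (toPM N).obj a)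
    (hq : ∀ ⦃a b : NF⦄ (φ : a ⟶ b) (e : (toPM M).obj b), q a ((toPM M).map φ e) = (toPM N).map φ (q b e)) : M ⟶ N where
  app a := ModuleCat.ofHom (q a.unop)
  naturality {a b} φ := by
    ext m
    exact hq φ.unop m

theorem homMk_app_apply {M N : PresheafOfModules.{u} (rf A)}
    (q : ∀ a : NF, (toPM M).obj a →ₗ[A.obj (op a)] (toPM N).obj a)
    (hq : ∀ ⦃a b : NF⦄ (φ : a ⟶ b) (e : (toPM M).obj b), q a ((toPM M).map φ e) = (toPM N).map φ (q b e))
    (a : NF) (m : (toPM M).obj a) : (homMk q hq).app (op a) m = q a m := rfl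

end Groth.Agent.ResProp.EF.K276
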