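import Groth.Agent.ResProp.EF.K276.SubGen

/-!
# P3: a separator for `Comod A`
-/

set_option autoImplicit false
set_option linter.dupNamespace false
set_option backward.isDefEq.respectTransparency false

open CategoryTheory CategoryTheory.Limits Opposite

namespace Groth.Agent.ResProp.EF.K276

open K784.BC K784.PM K741.RP EF56

universe u

variable (A : NFᵒᵖ ⥤ CommRingCat.{u})

/-- codes for countably generated presheaves of modules -/
structure Code where
  K : ∀ z : NF, Submodule (A.obj (op z)) (ℕ →₀ A.obj (op z))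
  map : ∀ {x z : NF}, (x ⟶ z) → (((ℕ →₀ A.obj (op z)) ⧸ K z) →+ ((ℕ →₀ A.obj (op x)) ⧸ K x))
  map_smul : ∀ {x z : NF} (φ : x ⟶ z) (r : A.obj (op z)) (m : (ℕ →₀ A.obj (op z)) ⧸ K z),
    map φ (r • m) = rg A φ r • map φ m
  map_id : ∀ (z : NF) (m : (ℕ →₀ A.obj (op z)) ⧸ K z), map (𝟙 z) m = m
  map_comp : ∀ {y x z : NF} (ψ : y ⟶ x) (φ : x ⟶ z) (m : (ℕ →₀ A.obj (op z)) ⧸ K z), map (ψ ≫ φ) m = map ψ (map φ m)

variable {A}

/-- the presheaf of modules of a code -/
noncomputable def Code.pm (c : Code.{u} A) : PM.{u} A where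
  obj z := (ℕ →₀ A.obj (op z)) ⧸ c.K z
  grp _ := inferInstance
  mod _ := inferInstance
  map φ := c.map φ
  map_smul φ r m := c.map_smul φ r m
  map_id z m := c.map_id z m
  map_comp ψ φ m := c.map_comp ψ φ m

/-- a presheaf with generators is coded -/
theorem exists_code (P : PM.{u} A) (s : ∀ z : NF, (ℕ →₀ A.obj (op z)) →ₗ[A.obj (op z)] P.obj z)
    (hs : ∀ z, Function.Surjective (s z)) : ∃ (c : Code.{u} A) (e : ∀ z : NF, c.pm.obj z ≃ₗ[A.obj (op z)] P.obj z),
      ∀ ⦃x z : NF⦄ (φ : x ⟶ z) (m : c.pm.obj z), e x (c.pm.map φ m) = P.map φ (e z m) := by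
  let e : ∀ z : NF, ((ℕ →₀ A.obj (op z)) ⧸ LinearMap.ker (s z)) ≃ₗ[A.obj (op z)] P.obj z := fun z =>
    LinearMap.quotKerEquivOfSurjective (s z) (hs z)
  let c : Code.{u} A :=
    { K := fun z => LinearMap.ker (s z)
      map := fun {x z} φ => ((e x).symm.toLinearMap.toAddMonoidHom.comp (P.map φ)).comp (e z).toLinearMap.toAddMonoidHom
      map_smul := fun {x z} φ r m => by
        change (e x).symm (P.map φ (e z (r • m))) = rg A φ r • (e x).symm (P.map φ (e z m))
        rw [_root_.map_smul, P.map_smul, _root_.map_smul]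
      map_id := fun z m => by
        change (e z).symm (P.map (𝟙 z) (e z m)) = m
        rw [P.map_id, LinearEquiv.symm_apply_apply]
      map_comp := fun {y x z} ψ φ m => by
        change (e y).symm (P.map (ψ ≫ φ) (e z m)) = (e y).symm (P.map ψ (e x ((e x).symm (P.map φ (e z m)))))
        rw [P.map_comp, LinearEquiv.apply_symm_apply] }
  exact ⟨c, e, fun x z φ m => (e x).apply_symm_apply (P.map φ (e z m))⟩

theorem cart_of_equiv {P Q : PM.{u} A} (hP : P.Cart) (e : ∀ z : NF, Q.obj z ≃ₗ[A.obj (op z)] P.obj z)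
    (he : ∀ ⦃x z : NF⦄ (φ : x ⟶ z) (m : Q.obj z), e x (Q.map φ m) = P.map φ (e z m)) : Q.Cart := by
  intro x z φ
  have h1 : IsBC (rg A φ) ((P.map φ).comp (e z).toLinearMap.toAddMonoidHom) := by
    have := IsBC.comp (isBC_of_bijective (φ := RingHom.id (A.obj (op z))) Function.bijective_id
      (f := (e z).toLinearMap.toAddMonoidHom) (fun a m => (e z).map_smul a m) (e z).bijective) (hP φ)
    rwa [RingHom.comp_id] at this
  refine IsBC.of_equiv h1 (e x).symm fun m => ?_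
  change (e x).symm (P.map φ (e z m)) = Q.map φ m
  rw [← he, LinearEquiv.symm_apply_apply]

/-- generators of the sub-presheaf generated by a sequence -/
theorem exists_gens {M : PM.{u} A} (f : ℕ → M.obj ⟨0⟩) (hN : StC M (Submodule.span (A.obj (op ⟨0⟩)) (Set.range f)))
    (z : NF) : ∃ s : (ℕ →₀ A.obj (op z)) →ₗ[A.obj (op z)] (genSub M _ hN).obj z, Function.Surjective s := by
  let g : ℕ → (genSub M _ hN).obj z := fun k => ⟨M.map (pt z 0) (f k), Submodule.subset_span
    ⟨f k, Submodule.subset_span ⟨k, rfl⟩, rfl⟩⟩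
  refine ⟨Finsupp.linearCombination _ g, ?_⟩
  rw [← LinearMap.range_eq_top, Finsupp.range_linearCombination]
  rw [eq_top_iff]
  rintro ⟨m, hm⟩ -
  have h1 : m ∈ Submodule.span (A.obj (op z)) (M.map (pt z 0) '' Set.range f) := by
    have h2 := hm
    change m ∈ Submodule.span (A.obj (op z)) (M.map (pt z 0) ''
      (Submodule.span (A.obj (op ⟨0⟩)) (Set.range f) : Submodule (A.obj (op ⟨0⟩)) (M.obj ⟨0⟩))) at h2
    rwa [span_image_span (M.map (pt z 0)) (M.map_smul (pt z 0))] at h2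
  have h3 : Submodule.map (gen M (Submodule.span (A.obj (op ⟨0⟩)) (Set.range f)) z).subtype
      (Submodule.span (A.obj (op z)) (Set.range g)) = Submodule.span (A.obj (op z)) (M.map (pt z 0) '' Set.range f) := by
    rw [Submodule.map_span, ← Set.range_comp, ← Set.range_comp]
    rfl
  rw [← h3] at h1
  obtain ⟨m', hm', h4⟩ := h1
  have h5 : m' = ⟨m, hm⟩ := Subtype.ext h4
  rw [← h5]
  exact hm'

/-- the comodules of cartesian codes -/
noncomputable def codeObj (c : { c : Code.{u} A // c.pm.Cart }) : Comod A := ⟨ofPM c.1.pm, ofPM_cart c.2⟩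

theorem isSeparating_codeObj (hA : GR A) : ObjectProperty.IsSeparating (.ofObj (codeObj (A := A))) := by
  intro M M' f g hfg
  have key : ∀ m : (toPM M.obj).obj ⟨0⟩, lin f.hom ⟨0⟩ m = lin g.hom ⟨0⟩ m := by
    intro m
    obtain ⟨a, ⟨k, hk⟩, ha⟩ := exists_countable (M := toPM M.obj) M.2 m
    choose s hs using exists_gens a ha
    obtain ⟨c, e, he⟩ := exists_code _ s hs
    have hc : c.pm.Cart := cart_of_equiv (genSub_cart hA M.2 ha) e he
    let p : codeObj ⟨c, hc⟩ ⟶ M := ObjectProperty.homMk (homMk (M := ofPM c.pm) (N := M.obj)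
      (fun z => (gen (toPM M.obj) _ z).subtype.comp (e z).toLinearMap) (fun x z φ m => congrArg Subtype.val (he φ m)))
    have h1 := hfg (codeObj ⟨c, hc⟩) (by simp) p
    have hmem : m ∈ gen (toPM M.obj) (Submodule.span (A.obj (op ⟨0⟩)) (Set.range a)) ⟨0⟩ := by
      rw [gen_zero, ← hk]
      exact Submodule.subset_span ⟨k, rfl⟩
    have h2 : (p ≫ f).hom.app (op ⟨0⟩) ((e ⟨0⟩).symm ⟨m, hmem⟩) = (p ≫ g).hom.app (op ⟨0⟩) ((e ⟨0⟩).symm ⟨m, hmem⟩) := by
      rw [h1]
    have h3 : (gen (toPM M.obj) _ ⟨0⟩).subtype (e ⟨0⟩ ((e ⟨0⟩).symm ⟨m, hmem⟩)) = m := by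
      rw [LinearEquiv.apply_symm_apply]
      rfl
    change lin f.hom ⟨0⟩ ((gen (toPM M.obj) _ ⟨0⟩).subtype (e ⟨0⟩ ((e ⟨0⟩).symm ⟨m, hmem⟩))) =
      lin g.hom ⟨0⟩ ((gen (toPM M.obj) _ ⟨0⟩).subtype (e ⟨0⟩ ((e ⟨0⟩).symm ⟨m, hmem⟩))) at h2
    rwa [h3] at h2
  refine ObjectProperty.hom_ext _ (PresheafOfModules.hom_ext fun z => ?_)
  have h2 : lin f.hom z.unop = lin g.hom z.unop := by
    refine (M.2 (pt z.unop 0)).hom_ext fun m => ?_
    rw [lin_map, lin_map, key]
  exact ModuleCat.hom_ext h2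

theorem hasSeparator (hA : GR A) [HasZeroMorphisms (Comod A)] [HasCoproducts.{u} (Comod A)] : HasSeparator (Comod A) :=
  ⟨⟨_, (isSeparator_sigma (codeObj (A := A))).2 (isSeparating_codeObj hA)⟩⟩

end Groth.Agent.ResProp.EF.K276
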