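import Groth.Agent.ResProp.EF.K276.EFComod

/-!
# Sub-comodules generated by a stable submodule; countably generated sub-comodules

`GR.ff_pt`: all `pt z i` are faithfully flat.  `genSub M N hC`: the sub-presheaf generated by `N ≤ M⟨0⟩` with the stability
condition `StC M N`; it is cartesian.  `exists_countable`: every element of `M⟨0⟩` lies in such an `N` spanned by a sequence.
-/

set_option autoImplicit false
set_option linter.dupNamespace false
set_option backward.isDefEq.respectTransparency false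

open CategoryTheory CategoryTheory.Limits Opposite

namespace Groth.Agent.ResProp.EF.K276

open K784.BC K784.PM K741.RP EF56

universe u

variable {A : NFᵒᵖ ⥤ CommRingCat.{u}}

theorem comp_pt {x z : NF} (φ : x ⟶ z) (i : Fin (z.n + 1)) :
    φ ≫ pt z i = pt x ((show Fin (z.n + 1) → Fin (x.n + 1) from φ) i) := rfl

theorem pt_id : pt ⟨0⟩ 0 = 𝟙 (⟨0⟩ : NF) := by
  funext i
  exact (Subsingleton.elim (α := Fin 1) _ _)

/-- all factors are faithfully flat -/
theorem ff_pt (hA : GR A) : ∀ (n : ℕ) (i : Fin (n + 1)), FF A (pt ⟨n⟩ i) := by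
  intro n
  induction n with
  | zero =>
    intro i
    have : i = 0 := Subsingleton.elim (α := Fin 1) _ _
    subst this
    rw [pt_id]
    exact FF.id _
  | succ n ih =>
    intro i
    refine Fin.lastCases ?_ (fun j => ?_) i
    · have h1 : FF A (lst (⟨0⟩ : NF)) := (GR.pd hA).ff_b
      have h2 : FF A (wmap (pt ⟨n⟩ 0)) := (hA.po (pt ⟨n⟩ 0)).ff (ih 0)
      have h3 : pt ⟨n + 1⟩ (Fin.last (n + 1)) = wmap (pt ⟨n⟩ 0) ≫ lst ⟨0⟩ := (wmap_lst (pt ⟨n⟩ 0)).symm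
      rw [h3]
      exact h2.comp h1
    · exact (hA.ff ⟨n⟩).comp (ih j)

/-- `N` generates a stable family -/
def StC (M : PM.{u} A) (N : Submodule (A.obj (op ⟨0⟩)) (M.obj ⟨0⟩)) : Prop :=
  ∀ n ∈ N, M.map (pt ⟨1⟩ 0) n ∈ Submodule.span (A.obj (op ⟨1⟩)) (M.map (pt ⟨1⟩ 1) '' N) ∧
    M.map (pt ⟨1⟩ 1) n ∈ Submodule.span (A.obj (op ⟨1⟩)) (M.map (pt ⟨1⟩ 0) '' N)

/-- the family generated -/
def gen (M : PM.{u} A) (N : Submodule (A.obj (op ⟨0⟩)) (M.obj ⟨0⟩)) (z : NF) : Submodule (A.obj (op z)) (M.obj z) :=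
  Submodule.span (A.obj (op z)) (M.map (pt z 0) '' N)

theorem map_mem_span {M : PM.{u} A} {N : Submodule (A.obj (op ⟨0⟩)) (M.obj ⟨0⟩)} {x z : NF} (φ : x ⟶ z)
    (i : Fin (z.n + 1)) {m : M.obj z} (hm : m ∈ Submodule.span (A.obj (op z)) (M.map (pt z i) '' N)) :
    M.map φ m ∈ Submodule.span (A.obj (op x)) (M.map (φ ≫ pt z i) '' N) := by
  have h1 : M.map φ m ∈ Submodule.span (A.obj (op x)) (M.map φ ''
      (Submodule.span (A.obj (op z)) (M.map (pt z i) '' N) : Submodule (A.obj (op z)) (M.obj z))) :=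
    Submodule.subset_span ⟨m, hm, rfl⟩
  rw [span_image_span (M.map φ) (M.map_smul φ), Set.image_image] at h1
  refine Submodule.span_mono ?_ h1
  rintro _ ⟨n, hn, rfl⟩
  exact ⟨n, hn, M.map_comp φ (pt z i) n⟩

theorem map_pt_mem {M : PM.{u} A} {N : Submodule (A.obj (op ⟨0⟩)) (M.obj ⟨0⟩)} (hN : StC M N) {z : NF} (i j : Fin (z.n + 1))
    {n : M.obj ⟨0⟩} (hn : n ∈ N) : M.map (pt z i) n ∈ Submodule.span (A.obj (op z)) (M.map (pt z j) '' N) := by
  let f : z ⟶ (⟨1⟩ : NF) := (![i, j] : Fin 2 → Fin (z.n + 1))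
  have h1 : f ≫ pt ⟨1⟩ 0 = pt z i := rfl
  have h2 : f ≫ pt ⟨1⟩ 1 = pt z j := rfl
  have h3 := map_mem_span (x := z) f 1 (hN n hn).1
  rw [h2, ← M.map_comp, h1] at h3
  exact h3

theorem span_eq_gen {M : PM.{u} A} {N : Submodule (A.obj (op ⟨0⟩)) (M.obj ⟨0⟩)} (hN : StC M N) {z : NF} (i : Fin (z.n + 1)) :
    Submodule.span (A.obj (op z)) (M.map (pt z i) '' N) = gen M N z := by
  apply le_antisymm
  · rw [Submodule.span_le]
    rintro _ ⟨n, hn, rfl⟩
    exact map_pt_mem hN i 0 hn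
  · rw [gen, Submodule.span_le]
    rintro _ ⟨n, hn, rfl⟩
    exact map_pt_mem hN 0 i hn

theorem map_mem_gen {M : PM.{u} A} {N : Submodule (A.obj (op ⟨0⟩)) (M.obj ⟨0⟩)} (hN : StC M N) ⦃x z : NF⦄ (φ : x ⟶ z)
    (m : M.obj z) (hm : m ∈ gen M N z) : M.map φ m ∈ gen M N x := by
  have h := map_mem_span φ 0 hm
  rw [comp_pt] at h
  rwa [← span_eq_gen hN ((show Fin (z.n + 1) → Fin (x.n + 1) from φ) 0)]

/-- the generated sub-presheaf -/
def genSub (M : PM.{u} A) (N : Submodule (A.obj (op ⟨0⟩)) (M.obj ⟨0⟩)) (hN : StC M N) : PM.{u} A :=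
  K741.RP.sub M (gen M N) (map_mem_gen hN)

theorem gen_zero (M : PM.{u} A) (N : Submodule (A.obj (op ⟨0⟩)) (M.obj ⟨0⟩)) : gen M N ⟨0⟩ = N := by
  rw [gen, pt_id]
  have : M.map (𝟙 (⟨0⟩ : NF)) '' (N : Set (M.obj ⟨0⟩)) = N := by
    ext m
    constructor
    · rintro ⟨n, hn, rfl⟩
      rw [M.map_id]
      exact hn
    · intro hm
      exact ⟨m, hm, M.map_id _ m⟩
  rw [this, Submodule.span_eq]

/-- a submodule and its span under a flat base change -/
theorem isBC_sub {R S : Type*} [CommRing R] [CommRing S] {φ : R →+* S} (hφ : φ.Flat) {M M₁ : Type*} [AddCommGroup M]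
    [Module R M] [AddCommGroup M₁] [Module S M₁] {f : M →+ M₁} (hf : IsBC φ f) (N : Submodule R M) (L : Submodule S M₁)
    (hL : L = Submodule.span S (f '' N)) (g : N →+ L) (hg : ∀ n, (g n : M₁) = f n) : IsBC φ g := by
  have hle : N.toAddSubgroup ≤ L.toAddSubgroup.comap f := fun n hn => by
    change f n ∈ L
    rw [hL]
    exact Submodule.subset_span ⟨n, hn, rfl⟩
  exact IsBC.of_exact hφ N.subtype Subtype.val_injective N.mkQ
    (fun m => (Submodule.Quotient.mk_eq_zero N).trans ⟨fun h => ⟨⟨m, h⟩, rfl⟩, fun ⟨k, hk⟩ => hk ▸ k.2⟩)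
    L.subtype Subtype.val_injective L.mkQ
    (fun m => (Submodule.Quotient.mk_eq_zero L).trans ⟨fun h => ⟨⟨m, h⟩, rfl⟩, fun ⟨k, hk⟩ => hk ▸ k.2⟩)
    hf (isBC_quot hf N L hL (QuotientAddGroup.map N.toAddSubgroup L.toAddSubgroup f hle) fun _ => rfl) hg
    (fun _ => rfl)

theorem genSub_cart (hA : GR A) {M : PM.{u} A} (hM : M.Cart) {N : Submodule (A.obj (op ⟨0⟩)) (M.obj ⟨0⟩)} (hN : StC M N) :
    (genSub M N hN).Cart := by
  have key : ∀ (z : NF) (i : Fin (z.n + 1)), IsBC (rg A (pt z i)) ((genSub M N hN).map (pt z i)) := fun z i =>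
    isBC_sub (ff_pt hA z.n i).flat (hM (pt z i)) (gen M N ⟨0⟩) (gen M N z) (by
      rw [gen_zero, span_eq_gen hN]) _ fun _ => rfl
  intro x z φ
  have h1 := key x ((show Fin (z.n + 1) → Fin (x.n + 1) from φ) 0)
  have h2 : (genSub M N hN).map (pt x ((show Fin (z.n + 1) → Fin (x.n + 1) from φ) 0)) =
      ((genSub M N hN).map φ).comp ((genSub M N hN).map (pt z 0)) :=
    AddMonoidHom.ext fun m => (genSub M N hN).map_comp φ (pt z 0) m
  have h3 : rg A (pt x ((show Fin (z.n + 1) → Fin (x.n + 1) from φ) 0)) = (rg A φ).comp (rg A (pt z 0)) :=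
    rg_comp A φ (pt z 0)
  rw [h2, h3] at h1
  exact IsBC.of_comp (key z 0) (fun b n => (genSub M N hN).map_smul φ b n) h1

/-- **every element lies in a countably generated sub-comodule** -/
theorem exists_countable {M : PM.{u} A} (hM : M.Cart) (m : M.obj ⟨0⟩) : ∃ f : ℕ → M.obj ⟨0⟩, m ∈ Set.range f ∧
    StC M (Submodule.span (A.obj (op ⟨0⟩)) (Set.range f)) := by
  classical
  have H : ∀ (i : Fin 2) (j : Fin 2) (n : M.obj ⟨0⟩), ∃ F : Finset (M.obj ⟨0⟩), M.map (pt ⟨1⟩ i) n ∈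
      Submodule.span (A.obj (op ⟨1⟩)) (M.map (pt ⟨1⟩ j) '' F) := by
    intro i j n
    have h1 : M.map (pt ⟨1⟩ i) n ∈ Submodule.span (A.obj (op ⟨1⟩)) (Set.range (M.map (pt ⟨1⟩ j))) := by
      rw [(hM (pt ⟨1⟩ j)).span_range]
      exact Submodule.mem_top
    rw [← Set.image_univ] at h1
    obtain ⟨T, hT, hT2⟩ := Submodule.mem_span_finite_of_mem_span h1
    obtain ⟨F, -, rfl⟩ := Finset.subset_set_image_iff.1 hT
    exact ⟨F, by rwa [Finset.coe_image] at hT2⟩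
  choose F hF using H
  let S : ℕ → Set (M.obj ⟨0⟩) := fun k => Nat.rec {m}
    (fun _ T => T ∪ ⋃ n ∈ T, ((F 0 1 n : Set (M.obj ⟨0⟩)) ∪ (F 1 0 n : Set (M.obj ⟨0⟩)))) k
  have hS : ∀ k, S (k + 1) = S k ∪ ⋃ n ∈ S k, ((F 0 1 n : Set (M.obj ⟨0⟩)) ∪ (F 1 0 n : Set (M.obj ⟨0⟩))) := fun k => rfl
  have hc : ∀ k, (S k).Countable := by
    intro k
    induction k with
    | zero => exact Set.countable_singleton m
    | succ k ih =>
      rw [hS]
      exact ih.union (ih.biUnion fun n _ => ((F 0 1 n).countable_toSet.union (F 1 0 n).countable_toSet))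
  obtain ⟨f, hf⟩ := (Set.countable_iUnion hc).exists_eq_range ⟨m, Set.mem_iUnion.2 ⟨0, rfl⟩⟩
  refine ⟨f, hf ▸ Set.mem_iUnion.2 ⟨0, rfl⟩, ?_⟩
  have key : ∀ n ∈ Set.range f, ((F 0 1 n : Set (M.obj ⟨0⟩)) ⊆ Set.range f) ∧ ((F 1 0 n : Set (M.obj ⟨0⟩)) ⊆ Set.range f) := by
    intro n hn
    rw [← hf] at hn ⊢
    obtain ⟨k, hk⟩ := Set.mem_iUnion.1 hn
    have h1 : ((F 0 1 n : Set (M.obj ⟨0⟩)) ∪ (F 1 0 n : Set (M.obj ⟨0⟩))) ⊆ S (k + 1) := by
      rw [hS]
      exact (Set.subset_biUnion_of_mem (u := fun n => ((F 0 1 n : Set (M.obj ⟨0⟩)) ∪ (F 1 0 n : Set (M.obj ⟨0⟩)))) hk).trans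
        Set.subset_union_right
    exact ⟨(Set.subset_union_left.trans h1).trans (Set.subset_iUnion S (k + 1)),
      (Set.subset_union_right.trans h1).trans (Set.subset_iUnion S (k + 1))⟩
  intro n hn
  induction hn using Submodule.span_induction with
  | mem n h =>
    exact ⟨Submodule.span_mono (Set.image_mono ((key n h).1.trans Submodule.subset_span)) (hF 0 1 n),
      Submodule.span_mono (Set.image_mono ((key n h).2.trans Submodule.subset_span)) (hF 1 0 n)⟩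
  | zero => rw [map_zero, map_zero]; exact ⟨Submodule.zero_mem _, Submodule.zero_mem _⟩
  | add a b _ _ ha hb =>
    rw [map_add, map_add]
    exact ⟨Submodule.add_mem _ ha.1 hb.1, Submodule.add_mem _ ha.2 hb.2⟩
  | smul r a _ ha =>
    rw [M.map_smul, M.map_smul]
    exact ⟨Submodule.smul_mem _ _ ha.1, Submodule.smul_mem _ _ ha.2⟩

end Groth.Agent.ResProp.EF.K276
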